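import Mathlib

/-!
# Étaleness of an extension of valuation rings and of their completions: the algebra

`A ⊆ K`, `B ⊆ L` are the rings, `A' ⊆ K'`, `B' ⊆ L'` their completions; only density is used.
-/

set_option autoImplicit false
set_option linter.style.haveILetI false
set_option linter.unusedSectionVars false

universe u

open TensorProduct

namespace Groth.Agent.ValCompl

variable {K L K' L' A B A' B' : Type u} [Field K] [Field L] [Field K'] [Field L']
  [Algebra K L] [Algebra K K'] [Algebra L L'] [Algebra K' L'] [Algebra K L']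
  [IsScalarTower K L L'] [IsScalarTower K K' L'] [FiniteDimensional K L]
  [CommRing A] [IsDomain A] [ValuationRing A] [CommRing B] [IsDomain B] [ValuationRing B]
  [CommRing A'] [CommRing B']
  [Algebra A K] [IsFractionRing A K] [Algebra B L] [IsFractionRing B L]
  [Algebra A' K'] [Algebra B' L']
  [Algebra A B] [Algebra A A'] [Algebra A' B'] [Algebra A L] [IsScalarTower A K L] [IsScalarTower A B L]
  [Algebra A K'] [IsScalarTower A K K'] [IsScalarTower A A' K']
  [Algebra A' L'] [IsScalarTower A' K' L'] [IsScalarTower A' B' L']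

/-- The multiplication map to the completion of `L`. -/
noncomputable def proj : K' ⊗[K] L →ₐ[K'] L' :=
  Algebra.TensorProduct.lift (Algebra.ofId K' L') (IsScalarTower.toAlgHom K L L') fun _ _ => Commute.all _ _

theorem proj_tmul (x : K') (l : L) :
    proj (L' := L') (x ⊗ₜ[K] l) = algebraMap K' L' x * algebraMap L L' l := by
  simp [proj, Algebra.ofId_apply]

/-- The elements whose projection is integral. -/
noncomputable def pullback : Subalgebra A' (K' ⊗[K] L) :=
  (IsScalarTower.toAlgHom A' B' L').range.comap ((proj (K := K) (L := L) (K' := K') (L' := L')).restrictScalars A')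

theorem mem_pullback {z : K' ⊗[K] L} :
    z ∈ pullback (A' := A') (B' := B') (L' := L') ↔ ∃ b : B', algebraMap B' L' b = proj z := Iff.rfl

/-- The map from the tensor product of the rings. -/
noncomputable def toTensor : A' ⊗[A] B →ₐ[A'] K' ⊗[K] L :=
  Algebra.TensorProduct.lift (Algebra.ofId A' (K' ⊗[K] L))
    ((Algebra.TensorProduct.includeRight.restrictScalars A).comp (IsScalarTower.toAlgHom A B L))
    fun _ _ => Commute.all _ _

theorem toTensor_tmul (a : A') (b : B) :
    toTensor (K := K) (L := L) (K' := K') (A := A) (a ⊗ₜ[A] b) = algebraMap A' K' a ⊗ₜ[K] algebraMap B L b := by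
  simp [toTensor, Algebra.ofId_apply, Algebra.TensorProduct.algebraMap_apply]

theorem exists_smul_mem {l : L} (halg : IsAlgebraic A l) :
    ∃ a : A, a ≠ 0 ∧ ∃ b : B, algebraMap B L b = algebraMap A L a * l := by
  obtain ⟨a, ha, hint⟩ := halg.exists_integral_multiple
  have h2 : IsIntegral B (a • l) := hint.tower_top
  obtain ⟨b, hb⟩ := (IsIntegrallyClosed.isIntegral_iff (R := B) (K := L)).mp h2
  exact ⟨a, ha, b, by rw [hb, Algebra.smul_def]⟩

theorem exists_basis (A : Type u) [CommRing A] [IsDomain A] [ValuationRing A] [Algebra A K] [IsFractionRing A K]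
    [Algebra A B] [Algebra A L] [IsScalarTower A K L] [IsScalarTower A B L] :
    ∃ (n : ℕ) (c : Module.Basis (Fin n) K L) (b : Fin n → B),
    ∀ j, algebraMap B L (b j) = c j := by
  classical
  let c₀ := Module.finBasis K L
  choose a ha b hb using fun j => exists_smul_mem (A := A) (B := B)
    ((IsFractionRing.isAlgebraic_iff A K L).mpr (Algebra.IsAlgebraic.isAlgebraic (R := K) (c₀ j)))
  have hu : ∀ j, IsUnit (algebraMap A K (a j)) := fun j =>
    isUnit_iff_ne_zero.mpr ((map_ne_zero_iff _ (IsFractionRing.injective A K)).mpr (ha j))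
  refine ⟨_, c₀.isUnitSMul hu, b, fun j => ?_⟩
  rw [Module.Basis.isUnitSMul_apply, hb, Algebra.smul_def, ← IsScalarTower.algebraMap_apply]

variable (hA' : Function.Injective (algebraMap A' K')) (hB' : Function.Injective (algebraMap B' L'))
  (hBL : ∀ x : L, (∃ b : B', algebraMap B' L' b = algebraMap L L' x) ↔ ∃ b : B, algebraMap B L b = x)
  (hdense : ∀ x : K', ∃ (k : K) (a : A'), algebraMap A' K' a = x - algebraMap K K' k)

include hBL in
theorem toTensor_mem (z : A' ⊗[A] B) :
    toTensor (K := K) (L := L) (K' := K') (A := A) z ∈ pullback (A' := A') (B' := B') (L' := L') := by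
  induction z using TensorProduct.induction_on with
  | zero => rw [map_zero]; exact Subalgebra.zero_mem _
  | add u v hu hv => rw [map_add]; exact Subalgebra.add_mem _ hu hv
  | tmul a b =>
    obtain ⟨b', hb'⟩ := (hBL (algebraMap B L b)).mpr ⟨b, rfl⟩
    refine mem_pullback.mpr ⟨algebraMap A' B' a * b', ?_⟩
    rw [toTensor_tmul, proj_tmul, map_mul, hb', ← IsScalarTower.algebraMap_apply,
      ← IsScalarTower.algebraMap_apply A' K' L']

include hA' in
theorem toTensor_injective :
    Function.Injective (toTensor (K := K) (L := L) (K' := K') (A := A) (B := B) (A' := A')) := by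
  classical
  obtain ⟨n, c, b, hb⟩ := exists_basis (K := K) (L := L) (B := B) A
  have hAB : Function.Injective (algebraMap A B) := by
    refine Function.Injective.of_comp (f := algebraMap B L) ?_
    rw [← RingHom.coe_comp, ← IsScalarTower.algebraMap_eq, IsScalarTower.algebraMap_eq A K L]
    exact (algebraMap K L).injective.comp (IsFractionRing.injective A K)
  haveI : Module.Flat A B := by
    rw [Module.Flat.flat_iff_torsion_eq_bot_of_isBezout, eq_bot_iff]
    rintro x ⟨⟨a, ha⟩, hax⟩
    rw [Submonoid.mk_smul, Algebra.smul_def, mul_eq_zero] at hax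
    exact hax.resolve_left ((map_ne_zero_iff _ hAB).mpr (nonZeroDivisors.ne_zero ha))
  haveI : Module.Flat A A' := by
    rw [Module.Flat.flat_iff_torsion_eq_bot_of_isBezout, eq_bot_iff]
    rintro x ⟨⟨a, ha⟩, hax⟩
    rw [Submonoid.mk_smul, Algebra.smul_def] at hax
    have h := congrArg (algebraMap A' K') hax
    rw [map_mul, map_zero, ← IsScalarTower.algebraMap_apply, IsScalarTower.algebraMap_apply A K K',
      mul_eq_zero] at h
    refine hA' ((h.resolve_left ?_).trans (map_zero _).symm)
    exact (map_ne_zero_iff _ (algebraMap K K').injective).mpr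
      ((map_ne_zero_iff _ (IsFractionRing.injective A K)).mpr (nonZeroDivisors.ne_zero ha))
  have hspan : ∀ z : A' ⊗[A] B, ∃ s : A, s ≠ 0 ∧ ∃ α : Fin n → A', s • z = ∑ j, α j ⊗ₜ[A] b j := by
    intro z
    induction z using TensorProduct.induction_on with
    | zero => exact ⟨1, one_ne_zero, fun _ => 0, by simp⟩
    | add u v hu hv =>
      obtain ⟨s, hs, α, hα⟩ := hu
      obtain ⟨t, ht, β, hβ⟩ := hv
      refine ⟨s * t, mul_ne_zero hs ht, fun j => t • α j + s • β j, ?_⟩
      simp only [TensorProduct.add_tmul, ← TensorProduct.smul_tmul', Finset.sum_add_distrib, ← Finset.smul_sum,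
        ← hα, ← hβ, smul_add, smul_smul, mul_comm t s]
    | tmul a x =>
      obtain ⟨⟨s, hs⟩, hsj⟩ := IsLocalization.exist_integer_multiples_of_finite (nonZeroDivisors A)
        (fun j => c.repr (algebraMap B L x) j)
      choose m hm using hsj
      refine ⟨s, nonZeroDivisors.ne_zero hs, fun j => m j • a, ?_⟩
      rw [TensorProduct.smul_tmul', TensorProduct.smul_tmul]
      have hx : s • x = ∑ j, m j • b j := by
        apply IsFractionRing.injective B L
        rw [Algebra.smul_def, map_mul, ← IsScalarTower.algebraMap_apply, map_sum]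
        conv_lhs => rw [← c.sum_repr (algebraMap B L x), Finset.mul_sum]
        refine Finset.sum_congr rfl fun j _ => ?_
        rw [Algebra.smul_def (m j), map_mul, ← IsScalarTower.algebraMap_apply, hb, Algebra.smul_def,
          IsScalarTower.algebraMap_apply A K L (m j), hm j, Algebra.smul_def, map_mul, ← mul_assoc,
          ← IsScalarTower.algebraMap_apply]
      rw [hx, TensorProduct.tmul_sum]
      exact Finset.sum_congr rfl fun j _ => (TensorProduct.smul_tmul _ _ _).symm
  rw [injective_iff_map_eq_zero]
  intro z hz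
  obtain ⟨s, hs, α, hα⟩ := hspan z
  refine (Module.Flat.isSMulRegular_of_nonZeroDivisors (M := A' ⊗[A] B) (mem_nonZeroDivisors_of_ne_zero hs)) ?_
  have h0 : ∑ j, algebraMap A' K' (α j) • c.baseChange K' j = (0 : K' ⊗[K] L) := by
    have h := congrArg (toTensor (K := K) (L := L) (K' := K') (A := A) (B := B) (A' := A')) hα
    rw [← algebraMap_smul A' s z, map_smul, hz, smul_zero, map_sum] at h
    rw [h]
    refine Finset.sum_congr rfl fun j _ => ?_
    rw [toTensor_tmul, hb, Module.Basis.baseChange_apply, TensorProduct.smul_tmul', smul_eq_mul, mul_one]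
  have h1 := Fintype.linearIndependent_iff.mp (c.baseChange K').linearIndependent _ h0
  show s • z = s • 0
  rw [smul_zero, hα]
  exact Finset.sum_eq_zero fun j _ => by
    rw [hA' ((h1 j).trans (map_zero _).symm), TensorProduct.zero_tmul]

include hA' hBL hdense hB' in
theorem toTensor_range :
    (toTensor (K := K) (L := L) (K' := K') (A := A) (B := B) (A' := A')).range =
      pullback (A' := A') (B' := B') (L' := L') := by
  refine le_antisymm ?_ ?_
  · rintro _ ⟨z, rfl⟩
    exact toTensor_mem hBL z
  intro z hz
  obtain ⟨n, c, b, hb⟩ := exists_basis (K := K) (L := L) (B := B) A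
  choose k a hk using fun j => hdense ((c.baseChange K').repr z j)
  let w : A' ⊗[A] B := ∑ j, a j ⊗ₜ[A] b j
  let l : L := ∑ j, k j • c j
  have hz' : z = toTensor (K := K) (L := L) (K' := K') (A := A) w + (1 : K') ⊗ₜ[K] l := by
    conv_lhs => rw [← (c.baseChange K').sum_repr z]
    simp only [w, l, map_sum, toTensor_tmul, hb, hk, TensorProduct.tmul_sum, ← Finset.sum_add_distrib]
    refine Finset.sum_congr rfl fun j _ => ?_
    rw [Module.Basis.baseChange_apply, TensorProduct.smul_tmul', smul_eq_mul, mul_one,
      ← TensorProduct.smul_tmul (R := K), ← Algebra.algebraMap_eq_smul_one, ← TensorProduct.add_tmul, sub_add_cancel]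
  have hl : ∃ bl : B, algebraMap B L bl = l := by
    obtain ⟨bz, hbz⟩ := mem_pullback.mp hz
    obtain ⟨bw, hbw⟩ := mem_pullback.mp (toTensor_mem (K := K) (L := L) (K' := K') (L' := L') (A := A) (A' := A') (B' := B') hBL w)
    refine (hBL l).mp ⟨bz - bw, ?_⟩
    rw [map_sub, hbz, hbw, ← map_sub, hz', add_sub_cancel_left, proj_tmul, map_one, one_mul]
  obtain ⟨bl, hbl⟩ := hl
  exact ⟨w + 1 ⊗ₜ bl, by
    show toTensor (K := K) (L := L) (K' := K') (A := A) (w + 1 ⊗ₜ bl) = z
    rw [map_add, toTensor_tmul, map_one, hbl, ← hz']⟩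

variable (hsurj : Function.Surjective (proj (K := K) (L := L) (K' := K') (L' := L')))
  (ϖ : A') (hϖ0 : algebraMap A' K' ϖ ≠ 0)
  (hϖ : ∀ x : K', ∃ (n : ℕ) (a : A'), algebraMap A' K' a = x * algebraMap A' K' ϖ ^ n)
  (hloc : ∀ a : A, IsUnit (algebraMap A A' a) → IsUnit a)

include hA' hB' hBL hdense hsurj hϖ0 hϖ hloc in
/-- Étaleness can be checked after completion. -/
theorem etale_iff [Algebra.IsSeparable K L] : Algebra.Etale A B ↔ Algebra.Etale A' B' := by
  classical
  let E := K' ⊗[K] L
  haveI : Algebra.FormallyEtale K L := Algebra.FormallyEtale.of_isSeparable K L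
  haveI : Algebra.FinitePresentation K L := (Algebra.FinitePresentation.of_finiteType).mp inferInstance
  haveI : Algebra.Etale K L := { }
  haveI : IsReduced E := Algebra.FormallyUnramified.isReduced_of_field K' E
  haveI : IsArtinianRing E := IsArtinianRing.of_finite K' E
  haveI : IsSemisimpleRing E := IsArtinianRing.isSemisimpleRing_of_isReduced E
  obtain ⟨f, hf, hker⟩ := IsSemisimpleRing.ideal_eq_span_idempotent
    (RingHom.ker (proj (K := K) (L := L) (K' := K') (L' := L')))
  have hpf : proj (L' := L') f = 0 := RingHom.mem_ker.mp (by rw [hker]; exact Ideal.mem_span_singleton_self f)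
  let C : Subalgebra A' E := pullback (A' := A') (B' := B') (L' := L')
  have hfC : f ∈ C := mem_pullback.mpr ⟨0, by rw [map_zero, hpf]⟩
  let fC : C := ⟨f, hfC⟩
  let eC : C := 1 - fC
  -- the projection to the completion
  let eB : B' ≃ₐ[A'] (IsScalarTower.toAlgHom A' B' L').range :=
    AlgEquiv.ofInjective (IsScalarTower.toAlgHom A' B' L') hB'
  let q : C →ₐ[A'] B' := eB.symm.toAlgHom.comp
    ((((proj (K := K) (L := L) (K' := K') (L' := L')).restrictScalars A').comp C.val).codRestrict _ fun x => x.2)
  have hq : ∀ x : C, algebraMap B' L' (q x) = proj (L' := L') (x : E) := fun x =>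
    congrArg Subtype.val (eB.apply_symm_apply _)
  have hqs : Function.Surjective q := by
    intro b
    obtain ⟨z, hz⟩ := hsurj (algebraMap B' L' b)
    exact ⟨⟨z, mem_pullback.mpr ⟨b, hz.symm⟩⟩, hB' (by rw [hq]; exact hz)⟩
  letI : Algebra C B' := q.toRingHom.toAlgebra
  haveI : IsScalarTower A' C B' := IsScalarTower.of_algebraMap_eq fun a => (q.commutes a).symm
  have hqe : q eC = 1 := hB' (by rw [hq, map_one]; simp [eC, fC, hpf])
  haveI : IsLocalization.Away eC B' := by
    refine IsLocalization.Away.mk _ ?_ (fun b => ?_) fun a b hab => ?_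
    · show IsUnit (q eC)
      rw [hqe]; exact isUnit_one
    · obtain ⟨x, hx⟩ := hqs b
      exact ⟨0, x, by rw [pow_zero, mul_one]; exact hx.symm⟩
    · have h : (a : E) - b ∈ RingHom.ker (proj (K := K) (L := L) (K' := K') (L' := L')) := by
        rw [RingHom.mem_ker, map_sub, ← hq, ← hq, show q a = q b from hab, sub_self]
      rw [hker, Ideal.mem_span_singleton'] at h
      obtain ⟨r, hr⟩ := h
      refine ⟨1, Subtype.ext ?_⟩
      simp only [pow_one, eC, fC, MulMemClass.coe_mul, AddSubgroupClass.coe_sub, OneMemClass.coe_one]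
      linear_combination (-(1 - f)) * hr - r * hf.eq
  -- the complementary factor
  let E₁ := Localization.Away f
  haveI : IsLocalization.Away fC E₁ := by
    refine IsLocalization.Away.mk _ ?_ (fun z => ?_) fun a b hab => ?_
    · rw [IsScalarTower.algebraMap_apply C E E₁]
      exact IsLocalization.Away.algebraMap_isUnit f
    · obtain ⟨n, x, hx⟩ := IsLocalization.Away.surj f z
      refine ⟨n + 1, ⟨x * f, mem_pullback.mpr ⟨0, by rw [map_zero, map_mul, hpf, mul_zero]⟩⟩, ?_⟩
      rw [IsScalarTower.algebraMap_apply C E E₁, IsScalarTower.algebraMap_apply C E E₁, pow_succ, ← mul_assoc,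
        show algebraMap C E fC = f from rfl, hx, ← map_mul]
      rfl
    · rw [IsScalarTower.algebraMap_apply C E E₁, IsScalarTower.algebraMap_apply C E E₁] at hab
      obtain ⟨⟨_, n, rfl⟩, hn⟩ := (IsLocalization.eq_iff_exists (Submonoid.powers f) E₁).mp hab
      exact ⟨n, Subtype.ext (by simpa [fC] using hn)⟩
  haveI : IsLocalization.Away ϖ K' := by
    refine IsLocalization.Away.mk _ (isUnit_iff_ne_zero.mpr hϖ0) (fun x => ?_) fun a b hab => ⟨0, by rw [hA' hab]⟩
    obtain ⟨n, a, ha⟩ := hϖ x
    exact ⟨n, a, ha.symm⟩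
  haveI : Algebra.Etale A' K' := Algebra.Etale.of_isLocalizationAway ϖ
  haveI : Algebra.Etale A' E := Algebra.Etale.comp A' K' E
  haveI : Algebra.Etale E E₁ := Algebra.Etale.of_isLocalizationAway f
  haveI : Algebra.Etale A' E₁ := Algebra.Etale.comp A' E E₁
  -- the tensor product of the rings is the pullback
  let Φ : A' ⊗[A] B ≃ₐ[A'] C :=
    (AlgEquiv.ofInjective _ (toTensor_injective (K := K) (L := L) (K' := K') (A := A) (B := B) (A' := A') hA')).trans
      (Subalgebra.equivOfEq _ _ (toTensor_range hA' hB' hBL hdense))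
  constructor
  · intro h
    haveI := h
    haveI : Algebra.Etale A' C := Algebra.Etale.of_equiv Φ
    haveI : Algebra.Etale C B' := Algebra.Etale.of_isLocalizationAway eC
    exact Algebra.Etale.comp A' C B'
  · intro h
    haveI := h
    haveI : Algebra.Etale A' C := by
      rw [← RingHom.etale_algebraMap]
      refine RingHom.Etale.ofLocalizationSpanTarget _ {eC, fC} ?_ ?_
      · rw [Ideal.eq_top_iff_one]
        exact Ideal.mem_span_pair.mpr ⟨1, 1, by simp [eC]⟩
      · rintro ⟨r, hr⟩
        rw [← IsScalarTower.algebraMap_eq, RingHom.etale_algebraMap]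
        rcases hr with rfl | rfl
        · exact Algebra.Etale.of_equiv
            ((IsLocalization.algEquiv (Submonoid.powers eC) B' (Localization.Away eC)).restrictScalars A')
        · exact Algebra.Etale.of_equiv
            ((IsLocalization.algEquiv (Submonoid.powers fC) E₁ (Localization.Away fC)).restrictScalars A')
    haveI : Algebra.Etale A' (A' ⊗[A] B) := Algebra.Etale.of_equiv Φ.symm
    haveI : Module.Flat A A' := by
      rw [Module.Flat.flat_iff_torsion_eq_bot_of_isBezout, eq_bot_iff]
      rintro x ⟨⟨a, ha⟩, hax⟩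
      rw [Submonoid.mk_smul, Algebra.smul_def] at hax
      have h := congrArg (algebraMap A' K') hax
      rw [map_mul, map_zero, ← IsScalarTower.algebraMap_apply, IsScalarTower.algebraMap_apply A K K',
        mul_eq_zero] at h
      refine hA' ((h.resolve_left ?_).trans (map_zero _).symm)
      exact (map_ne_zero_iff _ (algebraMap K K').injective).mpr
        ((map_ne_zero_iff _ (IsFractionRing.injective A K)).mpr (nonZeroDivisors.ne_zero ha))
    haveI : Nontrivial A' := (algebraMap A' K').domain_nontrivial
    haveI : Module.FaithfullyFlat A A' := by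
      rw [Module.FaithfullyFlat.iff_flat_and_proper_ideal]
      refine ⟨inferInstance, fun I hI htop => ?_⟩
      have hle : I • (⊤ : Submodule A A') ≤
          ((IsLocalRing.maximalIdeal A).map (algebraMap A A')).restrictScalars A := by
        rw [Submodule.smul_le]
        intro a ha x _
        rw [Algebra.smul_def]
        exact Ideal.mul_mem_right _ _ (Ideal.mem_map_of_mem _ (IsLocalRing.le_maximalIdeal hI ha))
      have h1 : (1 : A') ∈ (IsLocalRing.maximalIdeal A).map (algebraMap A A') := hle (htop.symm.le trivial)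
      -- combine the generators into one, as `A` is a valuation ring
      have key : ∀ z ∈ (IsLocalRing.maximalIdeal A).map (algebraMap A A'),
          ∃ a ∈ IsLocalRing.maximalIdeal A, ∃ y : A', z = algebraMap A A' a * y := by
        intro z hz
        induction hz using Submodule.span_induction with
        | mem z hz => obtain ⟨a, ha, rfl⟩ := hz; exact ⟨a, ha, 1, (mul_one _).symm⟩
        | zero => exact ⟨0, Submodule.zero_mem _, 0, by rw [mul_zero]⟩
        | add u v _ _ hu hv =>
          obtain ⟨a, ha, y, rfl⟩ := hu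
          obtain ⟨a', ha', y', rfl⟩ := hv
          rcases ValuationRing.dvd_total a a' with ⟨e, rfl⟩ | ⟨e, rfl⟩
          · exact ⟨a, ha, y + algebraMap A A' e * y', by rw [map_mul]; ring⟩
          · exact ⟨a', ha', y' + algebraMap A A' e * y, by rw [map_mul]; ring⟩
        | smul r u _ hu =>
          obtain ⟨a, ha, y, rfl⟩ := hu
          exact ⟨a, ha, r * y, by rw [smul_eq_mul, mul_left_comm]⟩
      obtain ⟨a, ha, y, hy⟩ := key 1 h1
      exact ha (hloc a (IsUnit.of_mul_eq_one y hy.symm))
    exact Algebra.Etale.of_etale_tensorProduct_of_faithfullyFlat A'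

end Groth.Agent.ValCompl
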